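import Mathlib.RingTheory.ZariskisMainTheorem
import Mathlib.RingTheory.FinitePresentation
import Mathlib.RingTheory.RingHom.FinitePresentation
import Mathlib.RingTheory.Finiteness.ModuleFinitePresentation
import Mathlib.AlgebraicGeometry.Morphisms.OpenImmersion
import Mathlib.AlgebraicGeometry.AffineScheme

/-!
# A quasi-finite algebra of finite presentation is open in a finite algebra of finite presentation
-/

set_option autoImplicit false
set_option linter.style.haveILetI false

universe u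

open CategoryTheory AlgebraicGeometry TopologicalSpace

namespace Groth.Agent.FlatB12.QFUniv

/-- Zariski's main theorem with elementwise conditions and finite presentation. -/
theorem exists_finite_fp_ring {A B : Type u} [CommRing A] [CommRing B] [Algebra A B]
    [Algebra.FinitePresentation A B] [Algebra.QuasiFinite A B] :
    ∃ (C : Type u) (_ : CommRing C) (_ : Algebra A C) (φ : C →ₐ[A] B) (s : Finset C),
      Module.Finite A C ∧ Algebra.FinitePresentation A C ∧ Ideal.span (φ '' (s : Set C)) = ⊤ ∧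
      ∀ h ∈ s, (∀ b : B, ∃ (N : ℕ) (c : C), φ c = φ h ^ N * b) ∧ ∀ c, φ c = 0 → ∃ N : ℕ, h ^ N * c = 0 := by
  classical
  choose S' hS' r hr hbij using fun P : PrimeSpectrum B =>
    Algebra.QuasiFiniteAt.exists_fg_and_exists_notMem_and_awayMap_bijective (R := A) P.asIdeal
  have htop : Ideal.span (Set.range fun P => ((r P : S' P) : B)) = ⊤ := by
    by_contra hne
    obtain ⟨M, hM, hle⟩ := Ideal.exists_le_maximal _ hne
    exact hr ⟨M, hM.isPrime⟩ (hle (Ideal.subset_span ⟨⟨M, hM.isPrime⟩, rfl⟩))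
  obtain ⟨t, ht, htop'⟩ := Submodule.mem_span_finite_of_mem_span
    (show (1 : B) ∈ Ideal.span (Set.range fun P => ((r P : S' P) : B)) from htop ▸ Submodule.mem_top)
  choose P hP using fun x : t => ht x.2
  choose gens hgens using fun P => hS' P
  let G : Finset B := (Finset.univ : Finset t).biUnion fun x => insert x.1 (gens (P x))
  have hint : ∀ g : G, IsIntegral A (g : B) := fun g => by
    obtain ⟨x, -, hx⟩ := Finset.mem_biUnion.1 g.2
    have hmem : (g : B) ∈ S' (P x) := by
      rcases Finset.mem_insert.1 hx with h | h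
      · rw [h, ← hP x]
        exact (r (P x)).2
      · exact (hgens (P x)).le (Submodule.subset_span h)
    haveI : Module.Finite A (S' (P x)) := ⟨(Submodule.fg_top _).2 (hS' (P x))⟩
    exact (Algebra.IsIntegral.isIntegral (R := A) (⟨(g : B), hmem⟩ : S' (P x))).map (S' (P x)).val
  choose p hp hpx using hint
  let M := MvPolynomial G A
  let E : Ideal M := Ideal.span (Set.range fun g : G => Polynomial.aeval (MvPolynomial.X g) (p g))
  let C := M ⧸ E
  haveI : Algebra.FinitePresentation A C := Algebra.FinitePresentation.quotient (Submodule.fg_span (Set.finite_range _))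
  have hintC : ∀ g : G, IsIntegral A (Ideal.Quotient.mkₐ A E (MvPolynomial.X g)) := fun g => by
    refine ⟨p g, hp g, ?_⟩
    rw [← Polynomial.aeval_def, Polynomial.aeval_algHom_apply]
    exact Ideal.Quotient.eq_zero_iff_mem.2 (Ideal.subset_span ⟨g, rfl⟩)
  have hgenC : Algebra.adjoin A (Set.range fun g : G => Ideal.Quotient.mkₐ A E (MvPolynomial.X g)) = ⊤ := by
    rw [show (fun g : G => Ideal.Quotient.mkₐ A E (MvPolynomial.X g)) = (Ideal.Quotient.mkₐ A E) ∘ MvPolynomial.X from rfl,
      Set.range_comp, Algebra.adjoin_image, MvPolynomial.adjoin_range_X, Algebra.map_top]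
    exact AlgHom.range_eq_top _ |>.2 (Ideal.Quotient.mkₐ_surjective A E)
  haveI : Module.Finite A C := by
    have h := Algebra.finite_adjoin_of_finite_of_isIntegral (R := A) (Set.finite_range fun g : G => Ideal.Quotient.mkₐ A E (MvPolynomial.X g))
      (by rintro _ ⟨g, rfl⟩; exact hintC g)
    rw [hgenC] at h
    exact Module.Finite.equiv (Subalgebra.topEquiv.toLinearEquiv : (⊤ : Subalgebra A C) ≃ₗ[A] C)
  let ev : M →ₐ[A] B := MvPolynomial.aeval fun g : G => (g : B)
  have hE : E ≤ RingHom.ker ev.toRingHom := Ideal.span_le.2 <| by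
    rintro _ ⟨g, rfl⟩
    show ev (Polynomial.aeval (MvPolynomial.X g) (p g)) = 0
    rw [← Polynomial.aeval_algHom_apply, MvPolynomial.aeval_X]
    exact hpx g
  let φ : C →ₐ[A] B := Ideal.Quotient.liftₐ E ev fun a ha => hE ha
  have hφX : ∀ (g : B) (hg : g ∈ G), φ (Ideal.Quotient.mkₐ A E (MvPolynomial.X ⟨g, hg⟩)) = g := fun g hg =>
    MvPolynomial.aeval_X _ _
  have hrange : ∀ (x : t) (b : B), b ∈ S' (P x) → ∃ c, φ c = b := by
    intro x b hb
    have hb' : b ∈ Submodule.span A (gens (P x) : Set B) := (hgens (P x)).ge hb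
    refine (Submodule.span_le.2 (fun g hg => ?_) : _ ≤ LinearMap.range φ.toLinearMap) hb'
    exact ⟨Ideal.Quotient.mkₐ A E (MvPolynomial.X ⟨g,
      Finset.mem_biUnion.2 ⟨x, Finset.mem_univ _, Finset.mem_insert_of_mem hg⟩⟩), hφX g _⟩
  let hel : t → C := fun x => Ideal.Quotient.mkₐ A E (MvPolynomial.X ⟨x.1,
    Finset.mem_biUnion.2 ⟨x, Finset.mem_univ _, Finset.mem_insert_self _ _⟩⟩)
  have hhel : ∀ x : t, φ (hel x) = x.1 := fun x => hφX _ _
  have hsurj : ∀ (x : t) (b : B), ∃ (N : ℕ) (c : C), φ c = φ (hel x) ^ N * b := by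
    intro x b
    let rx : B := r (P x)
    have hrx : rx = x.1 := hP x
    obtain ⟨y, hy⟩ := (hbij (P x)).2 (algebraMap B _ b)
    obtain ⟨⟨s, ⟨_, n, rfl⟩⟩, hs⟩ := IsLocalization.surj (Submonoid.powers (r (P x))) y
    have h1 := congrArg (Localization.awayMap (S' (P x)).val.toRingHom (r (P x))) hs
    rw [map_mul, Localization.awayMap, IsLocalization.Away.map, IsLocalization.map_eq, IsLocalization.map_eq] at h1
    rw [Localization.awayMap, IsLocalization.Away.map] at hy
    rw [hy, ← map_mul] at h1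
    obtain ⟨⟨_, m, rfl⟩, hm⟩ := (IsLocalization.eq_iff_exists (Submonoid.powers ((S' (P x)).val.toRingHom (r (P x)))) _).1 h1
    simp only [AlgHom.toRingHom_eq_coe, RingHom.coe_coe, Subalgebra.coe_val, SubmonoidClass.coe_pow] at hm
    obtain ⟨c, hc⟩ := hrange x (rx ^ m * (s : B)) (mul_mem (pow_mem (r (P x)).2 _) s.2)
    refine ⟨m + n, c, ?_⟩
    rw [hc, hhel, ← hrx, ← hm, pow_add]
    ring
  have hker : ∀ x : t, ∃ T : Finset C, (∀ c ∈ T, φ c = 0) ∧
      ∀ c, φ c = 0 → ∃ N : ℕ, hel x ^ N * c ∈ Ideal.span (T : Set C) := by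
    intro x
    let Ch := Localization.Away (hel x)
    let Bh := Localization.Away (φ (hel x))
    let ψ : Ch →ₐ[A] Bh := Localization.awayMapₐ φ (hel x)
    have hψ : ∀ c : C, ψ (algebraMap C Ch c) = algebraMap B Bh (φ c) := fun c => by
      show Localization.awayMap φ.toRingHom (hel x) (algebraMap C Ch c) = _
      rw [Localization.awayMap, IsLocalization.Away.map, IsLocalization.map_eq]
      rfl
    have hψs : Function.Surjective ψ := fun z => by
      obtain ⟨⟨b, ⟨_, n, rfl⟩⟩, hb⟩ := IsLocalization.surj (Submonoid.powers (φ (hel x))) z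
      obtain ⟨N, c, hc⟩ := hsurj x b
      refine ⟨algebraMap C Ch c * IsLocalization.Away.invSelf (hel x) ^ (N + n), ?_⟩
      have hu : IsUnit (algebraMap B Bh (φ (hel x))) := IsLocalization.Away.algebraMap_isUnit _
      have hi : algebraMap B Bh (φ (hel x)) * ψ (IsLocalization.Away.invSelf (hel x)) = 1 := by
        rw [← hψ, ← map_mul, IsLocalization.Away.mul_invSelf, map_one]
      have hb' : z * algebraMap B Bh (φ (hel x)) ^ n = algebraMap B Bh b := by rw [← map_pow]; exact hb
      rw [map_mul, map_pow, hψ, hc, map_mul, map_pow, ← hb']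
      calc _ = z * (algebraMap B Bh (φ (hel x)) * ψ (IsLocalization.Away.invSelf (hel x))) ^ (N + n) := by
            rw [mul_pow, pow_add (algebraMap B Bh (φ (hel x)))]; ring
        _ = z := by rw [hi, one_pow, mul_one]
    haveI : Algebra.FinitePresentation C Ch := IsLocalization.Away.finitePresentation (hel x)
    haveI : Algebra.FinitePresentation A Ch := Algebra.FinitePresentation.trans A C Ch
    haveI : Algebra.FinitePresentation B Bh := IsLocalization.Away.finitePresentation (φ (hel x))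
    haveI : Algebra.FinitePresentation A Bh := Algebra.FinitePresentation.trans A B Bh
    obtain ⟨K, hK⟩ := Algebra.FinitePresentation.ker_fG_of_surjective ψ hψs
    have hnum : ∀ z : K, ∃ c : C, φ c = 0 ∧ ∃ u : Ch, (z : Ch) = u * algebraMap C Ch c := fun z => by
      obtain ⟨⟨c, ⟨_, n, rfl⟩⟩, hc⟩ := IsLocalization.surj (Submonoid.powers (hel x)) (z : Ch)
      have h0 : ψ (z : Ch) = 0 := hK.le (Submodule.subset_span z.2)
      have h1 := congrArg ψ hc
      rw [map_mul, h0, zero_mul, hψ] at h1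
      obtain ⟨⟨_, m, rfl⟩, hm⟩ := (IsLocalization.map_eq_zero_iff (Submonoid.powers (φ (hel x))) Bh _).1 h1.symm
      refine ⟨hel x ^ m * c, by rw [map_mul, map_pow]; exact hm, IsLocalization.Away.invSelf (hel x) ^ (m + n), ?_⟩
      have hc' : (z : Ch) * algebraMap C Ch (hel x) ^ n = algebraMap C Ch c := by rw [← map_pow]; exact hc
      rw [map_mul, map_pow, ← hc']
      calc (z : Ch) = z * (algebraMap C Ch (hel x) * IsLocalization.Away.invSelf (hel x)) ^ (m + n) := by
            rw [IsLocalization.Away.mul_invSelf, one_pow, mul_one]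
        _ = _ := by rw [mul_pow, pow_add (algebraMap C Ch (hel x))]; ring
    choose num hnum0 u hu using hnum
    refine ⟨Finset.univ.image num, fun c hc => ?_, fun c hc => ?_⟩
    · obtain ⟨z, -, rfl⟩ := Finset.mem_image.1 hc
      exact hnum0 z
    · have hmem : algebraMap C Ch c ∈ Ideal.span (K : Set Ch) :=
        hK.ge (show ψ (algebraMap C Ch c) = 0 by rw [hψ, hc, map_zero])
      have hle : Ideal.span (K : Set Ch) ≤ (Ideal.span ((Finset.univ.image num : Finset C) : Set C)).map (algebraMap C Ch) := by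
        refine Ideal.span_le.2 fun z hz => ?_
        show z ∈ _
        rw [show z = _ from hu ⟨z, hz⟩]
        exact Ideal.mul_mem_left _ _ (Ideal.mem_map_of_mem _
          (Ideal.subset_span (Finset.mem_image_of_mem num (Finset.mem_univ _))))
      obtain ⟨_, ⟨N, rfl⟩, hN⟩ := (IsLocalization.algebraMap_mem_map_algebraMap_iff (Submonoid.powers (hel x)) _ _ _).1 (hle hmem)
      exact ⟨N, hN⟩
  choose T hT0 hT using hker
  let J : Ideal C := Ideal.span ((Finset.univ.biUnion T : Finset C) : Set C)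
  have hJ : J ≤ RingHom.ker φ.toRingHom := Ideal.span_le.2 fun c hc => by
    obtain ⟨x, -, hx⟩ := Finset.mem_biUnion.1 hc
    exact hT0 x c hx
  let φ' : C ⧸ J →ₐ[A] B := Ideal.Quotient.liftₐ J φ fun a ha => hJ ha
  have hφ' : ∀ c, φ' (Ideal.Quotient.mk J c) = φ c := fun c => rfl
  haveI : Algebra.FinitePresentation A (C ⧸ J) := Algebra.FinitePresentation.quotient ⟨_, rfl⟩
  refine ⟨C ⧸ J, inferInstance, inferInstance, φ', Finset.univ.image fun x => Ideal.Quotient.mk J (hel x),
    inferInstance, inferInstance, ?_, fun h hh => ?_⟩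
  · refine (Ideal.eq_top_iff_one _).2 ((Submodule.span_mono fun b hb => ?_ : Submodule.span B (t : Set B) ≤ _) htop')
    exact ⟨_, Finset.mem_image_of_mem _ (Finset.mem_univ (⟨b, hb⟩ : t)), (hφ' _).trans (hhel ⟨b, hb⟩)⟩
  · obtain ⟨x, -, rfl⟩ := Finset.mem_image.1 hh
    refine ⟨fun b => ?_, fun c hc => ?_⟩
    · obtain ⟨N, c, hc⟩ := hsurj x b
      exact ⟨N, Ideal.Quotient.mk J c, by rw [hφ', hφ', hc]⟩
    · obtain ⟨c, rfl⟩ := Ideal.Quotient.mk_surjective c
      obtain ⟨N, hN⟩ := hT x c ((hφ' c).symm.trans hc)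
      refine ⟨N, ?_⟩
      rw [← map_pow, ← map_mul, Ideal.Quotient.eq_zero_iff_mem]
      exact Ideal.span_mono (Finset.coe_subset.2 (Finset.subset_biUnion_of_mem T (Finset.mem_univ x))) hN

/-- A map of spectra that is bijective after inverting elements covering the source is an open immersion. -/
theorem isOpenImmersion_spec {C B : CommRingCat.{u}} (φ : C ⟶ B) (s : Finset C)
    (htop : Ideal.span (φ.hom '' (s : Set C)) = ⊤)
    (hs : ∀ h ∈ s, (∀ b : B, ∃ (N : ℕ) (c : C), φ.hom c = φ.hom h ^ N * b) ∧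
      ∀ c, φ.hom c = 0 → ∃ N : ℕ, h ^ N * c = 0) :
    IsOpenImmersion (Spec.map φ) ∧
      Set.range (Spec.map φ) = ⋃ h ∈ s, (PrimeSpectrum.basicOpen h : Set (PrimeSpectrum C)) := by
  classical
  let q := Spec.map φ
  have hiso : ∀ g : s, IsIso (q ∣_ PrimeSpectrum.basicOpen g.1) := fun g => by
    obtain ⟨h1, h2⟩ := hs g.1 g.2
    have hbij : Function.Bijective (Localization.awayMap φ.hom g.1) := by
      refine ⟨(injective_iff_map_eq_zero _).2 fun y hy => ?_, fun z => ?_⟩
      · obtain ⟨b, ⟨_, n, rfl⟩, rfl⟩ := IsLocalization.exists_mk'_eq (Submonoid.powers g.1) y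
        rw [Localization.awayMap, IsLocalization.Away.map, IsLocalization.map_mk',
          IsLocalization.mk'_eq_zero_iff] at hy
        obtain ⟨⟨_, k, rfl⟩, hk⟩ := hy
        obtain ⟨N, hN⟩ := h2 (g.1 ^ k * b) (by rw [map_mul, map_pow]; exact hk)
        refine (IsLocalization.mk'_eq_zero_iff _ _).2 ⟨⟨g.1 ^ (N + k), N + k, rfl⟩, ?_⟩
        show g.1 ^ (N + k) * b = 0
        simpa [pow_add, mul_assoc] using hN
      · obtain ⟨b, ⟨_, n, rfl⟩, rfl⟩ := IsLocalization.exists_mk'_eq (Submonoid.powers (φ.hom g.1)) z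
        obtain ⟨N, c, hc⟩ := h1 b
        refine ⟨IsLocalization.mk' (Localization.Away g.1) c (⟨g.1 ^ (N + n), N + n, rfl⟩ : Submonoid.powers g.1), ?_⟩
        rw [Localization.awayMap, IsLocalization.Away.map, IsLocalization.map_mk']
        refine IsLocalization.mk'_eq_of_eq ?_
        simp only [hc, pow_add, map_mul, map_pow]
        ring
    haveI : IsIso (CommRingCat.ofHom (Localization.awayMap φ.hom g.1)) :=
      (ConcreteCategory.isIso_iff_bijective _).2 hbij
    exact ((MorphismProperty.isomorphisms Scheme.{u}).arrow_mk_iso_iff (SpecMapRestrictBasicOpenIso φ g.1)).2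
      (show IsIso _ from inferInstance)
  let U : s → (Spec C).Opens := fun g => PrimeSpectrum.basicOpen g.1
  let O : (Spec C).Opens := ⨆ g, U g
  haveI : IsIso (q ∣_ O) := by
    refine IsZariskiLocalAtTarget.of_iSup_eq_top (P := MorphismProperty.isomorphisms Scheme.{u})
      (fun g => O.ι ⁻¹ᵁ U g) ?_ fun g => ?_
    · refine top_le_iff.1 fun x _ => ?_
      obtain ⟨g, hg⟩ := Opens.mem_iSup.1 x.2
      exact Opens.mem_iSup.2 ⟨g, hg⟩
    · refine ((MorphismProperty.isomorphisms Scheme.{u}).arrow_mk_iso_iff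
        (morphismRestrictRestrict q O _ ≪≫ morphismRestrictEq q ?_)).2 (hiso g)
      rw [Scheme.Hom.image_preimage_eq_opensRange_inf, Scheme.Opens.opensRange_ι, inf_eq_right]
      exact le_iSup U g
  have hpre : q ⁻¹ᵁ O = ⊤ := top_le_iff.1 fun x _ => by
    by_contra hx
    refine x.isPrime.ne_top (top_le_iff.1 (htop.ge.trans (Ideal.span_le.2 ?_)))
    rintro _ ⟨g, hg, rfl⟩
    by_contra hgx
    exact hx (Opens.mem_iSup.2 ⟨⟨g, hg⟩, hgx⟩)
  have hq : q = (Spec B).topIso.inv ≫ (Spec B).homOfLE hpre.ge ≫ (q ∣_ O) ≫ O.ι := by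
    rw [morphismRestrict_ι, Scheme.homOfLE_ι_assoc, reassoc_of% (Scheme.toIso_inv_ι (Spec B))]
  refine ⟨?_, ?_⟩
  · show IsOpenImmersion q
    rw [hq]
    infer_instance
  · ext x
    constructor
    · rintro ⟨y, rfl⟩
      obtain ⟨g, hg⟩ := Opens.mem_iSup.1 (hpre.ge (Opens.mem_top y) : y ∈ q ⁻¹ᵁ O)
      exact Set.mem_biUnion g.2 hg
    · intro hx
      obtain ⟨g, hg, hgx⟩ := Set.mem_iUnion₂.1 hx
      obtain ⟨y, hy⟩ := (q ∣_ O).surjective (⟨x, Opens.mem_iSup.2 ⟨⟨g, hg⟩, hgx⟩⟩ : O)
      refine ⟨(q ⁻¹ᵁ O).ι y, ?_⟩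
      show q ((q ⁻¹ᵁ O).ι y) = x
      rw [← Scheme.Hom.comp_apply, ← morphismRestrict_ι, Scheme.Hom.comp_apply, hy]
      rfl

end Groth.Agent.FlatB12.QFUniv
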