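import Mathlib.Algebra.Module.FinitePresentation
import Mathlib.RingTheory.FinitePresentation
import Mathlib.LinearAlgebra.TensorProduct.RightExactness
import Mathlib.RingTheory.TensorProduct.Maps
import Mathlib.RingTheory.Idempotents

/-!
# The algebra of idempotents of a finitely presented module algebra lying in a given ideal
-/

set_option autoImplicit false
set_option linter.style.haveILetI false

universe u

open TensorProduct

namespace Groth.Agent.FlatB12.QFUniv

/-- A finitely presented algebra with an idempotent in an ideal, weakly universal among such idempotents. -/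
theorem exists_universal_idempotent {A C : Type u} [CommRing A] [CommRing C] [Algebra A C]
    [Module.FinitePresentation A C] {r : ℕ} (h : Fin r → C) :
    ∃ (Q : Type u) (_ : CommRing Q) (_ : Algebra A Q) (e : C ⊗[A] Q),
      Algebra.FinitePresentation A Q ∧ IsIdempotentElem e ∧
      e ∈ Ideal.span (Set.range fun l => h l ⊗ₜ[A] (1 : Q)) ∧
      ∀ (R : Type u) [CommRing R] [Algebra A R] (e' : C ⊗[A] R), IsIdempotentElem e' →
        e' ∈ Ideal.span (Set.range fun l => h l ⊗ₜ[A] (1 : R)) →
        ∃ ψ : Q →ₐ[A] R, Algebra.TensorProduct.map (AlgHom.id A C) ψ e = e' := by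
  classical
  obtain ⟨n, π, hπ⟩ := Module.Finite.exists_fin' A C
  obtain ⟨K, hK⟩ := Module.FinitePresentation.fg_ker π hπ
  let b : Fin n → C := fun i => π (Pi.single i 1)
  let lc : (K → A) →ₗ[A] (Fin n → A) := Fintype.linearCombination A (fun u : K => (u : Fin n → A))
  have hex : Function.Exact lc π := LinearMap.exact_iff.2 (by
    rw [Fintype.range_linearCombination, Subtype.range_coe_subtype, ← hK]
    rfl)
  have hπb : ∀ v : Fin n → A, π v = ∑ i, v i • b i := fun v => by
    conv_lhs => rw [pi_eq_sum_univ' v, map_sum]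
    simp [b]
  choose c hc using fun i j : Fin n => hπ (b i * b j)
  choose d hd using fun (i : Fin n) (l : Fin r) => hπ (b i * h l)
  let σ := Fin n ⊕ (Fin n × Fin r) ⊕ K ⊕ K
  let P := MvPolynomial σ A
  let x : Fin n → P := fun i => MvPolynomial.X (Sum.inl i)
  let z : Fin n → Fin r → P := fun i l => MvPolynomial.X (Sum.inr (Sum.inl (i, l)))
  let y : K → P := fun u => MvPolynomial.X (Sum.inr (Sum.inr (Sum.inl u)))
  let w : K → P := fun u => MvPolynomial.X (Sum.inr (Sum.inr (Sum.inr u)))
  let V₁ : Fin n → P := fun k => ∑ i, ∑ j, x i * x j * algebraMap A P (c i j k) - x k -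
    ∑ u : K, y u * algebraMap A P (u.1 k)
  let V₂ : Fin n → P := fun k => ∑ i, ∑ l, z i l * algebraMap A P (d i l k) - x k -
    ∑ u : K, w u * algebraMap A P (u.1 k)
  let I : Ideal P := Ideal.span (Set.range V₁ ∪ Set.range V₂)
  let Q := P ⧸ I
  haveI : Algebra.FinitePresentation A Q :=
    Algebra.FinitePresentation.quotient (Submodule.fg_span ((Set.finite_range _).union (Set.finite_range _)))
  -- the combination map
  have hsum : ∀ (R : Type u) [CommRing R] [Algebra A R] (v : Fin n → A) (t : R),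
      ∑ k, b k ⊗ₜ[A] (t * algebraMap A R (v k)) = π v ⊗ₜ[A] t := by
    intro R _ _ v t
    rw [hπb, sum_tmul]
    refine Finset.sum_congr rfl fun k _ => ?_
    rw [smul_tmul, Algebra.smul_def, mul_comm]
  have hKker : ∀ u : K, π u.1 = 0 := fun u => hK.le (Submodule.subset_span u.2)
  have hrel : ∀ (R : Type u) [CommRing R] [Algebra A R] (yv : K → R),
      ∑ k, b k ⊗ₜ[A] (∑ u : K, yv u * algebraMap A R (u.1 k)) = 0 := by
    intro R _ _ yv
    simp only [tmul_sum]
    rw [Finset.sum_comm]
    refine Finset.sum_eq_zero fun u _ => ?_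
    rw [hsum, hKker, zero_tmul]
  have hquad : ∀ (R : Type u) [CommRing R] [Algebra A R] (X : Fin n → R),
      ∑ k, b k ⊗ₜ[A] (∑ i, ∑ j, X i * X j * algebraMap A R (c i j k)) =
        (∑ i, b i ⊗ₜ[A] X i) * ∑ i, b i ⊗ₜ[A] X i := by
    intro R _ _ X
    simp only [tmul_sum, Finset.sum_mul, Finset.mul_sum, Algebra.TensorProduct.tmul_mul_tmul]
    rw [Finset.sum_comm]
    refine Finset.sum_congr rfl fun i _ => ?_
    rw [Finset.sum_comm]
    refine Finset.sum_congr rfl fun j _ => ?_
    rw [hsum, hc, mul_comm (b i), mul_comm (X i)]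
  have hlin : ∀ (R : Type u) [CommRing R] [Algebra A R] (Z : Fin n → Fin r → R),
      ∑ k, b k ⊗ₜ[A] (∑ i, ∑ l, Z i l * algebraMap A R (d i l k)) =
        ∑ l, (∑ i, b i ⊗ₜ[A] Z i l) * (h l ⊗ₜ[A] 1) := by
    intro R _ _ Z
    simp only [tmul_sum, Finset.sum_mul, Algebra.TensorProduct.tmul_mul_tmul, mul_one]
    rw [Finset.sum_comm]
    conv_rhs => rw [Finset.sum_comm]
    refine Finset.sum_congr rfl fun i _ => ?_
    rw [Finset.sum_comm]
    refine Finset.sum_congr rfl fun l _ => ?_
    rw [hsum, hd]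
  let q : P →ₐ[A] Q := Ideal.Quotient.mkₐ A I
  let e : C ⊗[A] Q := ∑ i, b i ⊗ₜ[A] q (x i)
  have hq : ∀ g ∈ Set.range V₁ ∪ Set.range V₂, q g = 0 := fun g hg =>
    Ideal.Quotient.eq_zero_iff_mem.2 (Ideal.subset_span hg)
  refine ⟨Q, inferInstance, inferInstance, e, inferInstance, ?_, ?_, fun R _ _ e' he' hmem => ?_⟩
  · have h0 : ∑ k, b k ⊗ₜ[A] q (V₁ k) = 0 := Finset.sum_eq_zero fun k _ => by
      rw [hq _ (Or.inl ⟨k, rfl⟩), tmul_zero]
    simp only [V₁, map_sub, map_sum, map_mul, AlgHom.commutes, tmul_sub, Finset.sum_sub_distrib] at h0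
    rw [hquad Q (fun i => q (x i)), hrel Q (fun u => q (y u)), sub_zero, sub_eq_zero] at h0
    exact h0
  · have h0 : ∑ k, b k ⊗ₜ[A] q (V₂ k) = 0 := Finset.sum_eq_zero fun k _ => by
      rw [hq _ (Or.inr ⟨k, rfl⟩), tmul_zero]
    simp only [V₂, map_sub, map_sum, map_mul, AlgHom.commutes, tmul_sub, Finset.sum_sub_distrib] at h0
    rw [hlin Q (fun i l => q (z i l)), hrel Q (fun u => q (w u)), sub_zero, sub_eq_zero] at h0
    show ∑ i, b i ⊗ₜ[A] q (x i) ∈ _
    rw [← h0]
    exact sum_mem fun l _ => Ideal.mul_mem_left _ _ (Ideal.subset_span ⟨l, rfl⟩)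
  · have hsurj : ∀ t : C ⊗[A] R, ∃ X : Fin n → R, ∑ i, b i ⊗ₜ[A] X i = t := fun t => by
      induction t using TensorProduct.induction_on with
      | zero => exact ⟨0, by simp⟩
      | tmul c₀ r₀ =>
        obtain ⟨v, rfl⟩ := hπ c₀
        exact ⟨fun k => r₀ * algebraMap A R (v k), hsum R v r₀⟩
      | add a a' ha ha' =>
        obtain ⟨X, rfl⟩ := ha
        obtain ⟨X', rfl⟩ := ha'
        exact ⟨X + X', by simp [tmul_add, Finset.sum_add_distrib]⟩
    have hzero : ∀ v : Fin n → R, ∑ i, b i ⊗ₜ[A] v i = 0 →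
        ∃ yv : K → R, ∀ k, v k = ∑ u : K, yv u * algebraMap A R (u.1 k) := by
      intro v hv
      let V : (Fin n → A) ⊗[A] R := ∑ i, Pi.single i 1 ⊗ₜ v i
      obtain ⟨t, ht⟩ := (rTensor_exact R hex hπ V).1 (by
        rw [map_sum, ← hv]; exact Finset.sum_congr rfl fun i _ => by simp [b])
      have hproj : ∀ k, v k = TensorProduct.lid A R ((LinearMap.proj k).rTensor R V) := fun k => by
        simp [V, map_sum, Pi.single_apply, ite_smul, eq_comm]
      suffices ∀ t : (K → A) ⊗[A] R, ∃ yv : K → R, ∀ k,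
          TensorProduct.lid A R ((LinearMap.proj k).rTensor R (lc.rTensor R t)) =
            ∑ u : K, yv u * algebraMap A R (u.1 k) by
        obtain ⟨yv, hyv⟩ := this t
        exact ⟨yv, fun k => by rw [hproj, ← ht, hyv]⟩
      intro t
      induction t using TensorProduct.induction_on with
      | zero => exact ⟨0, fun k => by simp⟩
      | tmul a r₀ =>
        refine ⟨fun u => a u • r₀, fun k => ?_⟩
        simp only [LinearMap.rTensor_tmul, LinearMap.proj_apply, TensorProduct.lid_tmul, lc,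
          Fintype.linearCombination_apply, Finset.sum_apply, Pi.smul_apply, smul_eq_mul, Finset.sum_smul]
        refine Finset.sum_congr rfl fun u _ => ?_
        simp only [Algebra.smul_def, map_mul]
        ring
      | add a a' ha ha' =>
        obtain ⟨Y, hY⟩ := ha
        obtain ⟨Y', hY'⟩ := ha'
        exact ⟨Y + Y', fun k => by simp [map_add, hY, hY', add_mul, Finset.sum_add_distrib]⟩
    obtain ⟨X, hX⟩ := hsurj e'
    obtain ⟨a, ha⟩ := Ideal.mem_span_range_iff_exists_fun.1 hmem
    choose Z hZ using fun l => hsurj (a l)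
    obtain ⟨Y, hY⟩ := hzero (fun k => ∑ i, ∑ j, X i * X j * algebraMap A R (c i j k) - X k) (by
      simp only [tmul_sub, Finset.sum_sub_distrib, hquad, hX]
      rw [he'.eq, sub_self])
    obtain ⟨W, hW⟩ := hzero (fun k => ∑ i, ∑ l, Z l i * algebraMap A R (d i l k) - X k) (by
      simp only [tmul_sub, Finset.sum_sub_distrib, hX]
      rw [hlin R (fun i l => Z l i), sub_eq_zero, ← ha]
      simp only [hZ])
    let val : σ → R := Sum.elim X (Sum.elim (fun p => Z p.2 p.1) (Sum.elim Y W))
    let ev : P →ₐ[A] R := MvPolynomial.aeval val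
    have hx : ∀ i, ev (x i) = X i := fun i => MvPolynomial.aeval_X _ _
    have hy : ∀ u, ev (y u) = Y u := fun u => MvPolynomial.aeval_X _ _
    have hw : ∀ u, ev (w u) = W u := fun u => MvPolynomial.aeval_X _ _
    have hz : ∀ i l, ev (z i l) = Z l i := fun i l => MvPolynomial.aeval_X _ _
    have hev : I ≤ RingHom.ker ev.toRingHom := Ideal.span_le.2 <| by
      rintro _ (⟨k, rfl⟩ | ⟨k, rfl⟩)
      · show ev (V₁ k) = 0
        simp only [V₁, map_sub, map_sum, map_mul, AlgHom.commutes, hx, hy]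
        rw [sub_eq_zero]
        exact hY k
      · show ev (V₂ k) = 0
        simp only [V₂, map_sub, map_sum, map_mul, AlgHom.commutes, hx, hw, hz]
        rw [sub_eq_zero]
        exact hW k
    refine ⟨Ideal.Quotient.liftₐ I ev fun g hg => hev hg, ?_⟩
    rw [← hX, map_sum]
    refine Finset.sum_congr rfl fun i _ => ?_
    rw [Algebra.TensorProduct.map_tmul]
    show b i ⊗ₜ[A] ev (MvPolynomial.X (Sum.inl i)) = b i ⊗ₜ[A] X i
    rw [show ev (MvPolynomial.X (Sum.inl i)) = X i from MvPolynomial.aeval_X _ _]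

end Groth.Agent.FlatB12.QFUniv
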