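import Groth.Agent.FlatB12.QFUniv.Factor
import Groth.Agent.FlatB12.QFUniv.Universal
import Groth.Agent.FlatB12.AffineCrit
import Groth.Agent.LimitsH94.Approx.Basic
import Mathlib.AlgebraicGeometry.Morphisms.Finite
import Mathlib.AlgebraicGeometry.Morphisms.FinitePresentation
import Mathlib.AlgebraicGeometry.Morphisms.QuasiFinite

/-!
# A weakly universal finite open of a quasi-finite morphism of affine schemes
-/

set_option autoImplicit false
set_option backward.isDefEq.respectTransparency false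
set_option backward.isDefEq.respectTransparency.types false
set_option linter.style.haveILetI false

universe u

open CategoryTheory Limits AlgebraicGeometry TopologicalSpace TensorProduct

namespace Groth.Agent.FlatB12.QFUniv

/-- Global sections of a fibre product of affine schemes as a tensor product. -/
theorem exists_theta {T Y Y' : Scheme.{u}} [IsAffine T] [IsAffine Y] [IsAffine Y'] (t : T ⟶ Y) (b : Y' ⟶ Y) :
    letI := t.appTop.hom.toAlgebra; letI := b.appTop.hom.toAlgebra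
    ∃ θ : Γ(T, ⊤) ⊗[Γ(Y, ⊤)] Γ(Y', ⊤) →+* Γ(pullback t b, ⊤), Function.Bijective θ ∧
      ∀ c r, θ (c ⊗ₜ r) = (pullback.fst t b).appTop c * (pullback.snd t b).appTop r := by
  letI := t.appTop.hom.toAlgebra; letI := b.appTop.hom.toAlgebra
  have h1 := CommRingCat.isPushout_tensorProduct Γ(Y, ⊤) Γ(T, ⊤) Γ(Y', ⊤)
  have h2 : IsPushout (CommRingCat.ofHom (algebraMap Γ(Y, ⊤) Γ(T, ⊤)))
      (CommRingCat.ofHom (algebraMap Γ(Y, ⊤) Γ(Y', ⊤))) (pullback.fst t b).appTop (pullback.snd t b).appTop :=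
    isPushout_appTop_of_isPullback (IsPullback.of_hasPullback t b)
  let i := h1.isoIsPushout _ _ h2
  have hl : ∀ c, i.hom.hom (c ⊗ₜ[Γ(Y, ⊤)] (1 : Γ(Y', ⊤))) = (pullback.fst t b).appTop c := fun c =>
    congr($(h1.inl_isoIsPushout_hom _ _ h2).hom c)
  have hr : ∀ r, i.hom.hom ((1 : Γ(T, ⊤)) ⊗ₜ[Γ(Y, ⊤)] r) = (pullback.snd t b).appTop r := fun r =>
    congr($(h1.inr_isoIsPushout_hom _ _ h2).hom r)
  refine ⟨i.hom.hom, ConcreteCategory.bijective_of_isIso i.hom, fun c r => ?_⟩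
  rw [← hl, ← hr, ← map_mul, Algebra.TensorProduct.tmul_mul_tmul, mul_one, one_mul]

/-- A section in the ideal generated by some sections lives where one of them does. -/
theorem basicOpen_le_of_mem_span {P : Scheme.{u}} {ι : Type*} (g : ι → Γ(P, ⊤)) {x : Γ(P, ⊤)}
    (hx : x ∈ Ideal.span (Set.range g)) : P.basicOpen x ≤ ⨆ i, P.basicOpen (g i) := by
  induction hx using Submodule.span_induction with
  | mem y hy =>
    obtain ⟨i, rfl⟩ := hy
    exact le_iSup (fun i => P.basicOpen (g i)) i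
  | zero => rw [Scheme.basicOpen_zero]; exact bot_le
  | add y z _ _ hy hz => exact (P.basicOpen_add_le y z).trans (sup_le hy hz)
  | smul a y _ hy => rw [smul_eq_mul, Scheme.basicOpen_mul]; exact inf_le_right.trans hy

theorem isClosed_basicOpen {P : Scheme.{u}} {x : Γ(P, ⊤)} (hx : IsIdempotentElem x) :
    IsClosed (P.basicOpen x : Set P) := by
  have h1 : P.basicOpen x ⊓ P.basicOpen (1 - x) = ⊥ := by
    rw [← Scheme.basicOpen_mul, mul_sub, mul_one, hx.eq, sub_self, Scheme.basicOpen_zero]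
  have h2 : P.basicOpen x ⊔ P.basicOpen (1 - x) = ⊤ := by
    refine top_le_iff.1 (le_trans ?_ (P.basicOpen_add_le x (1 - x)))
    rw [add_sub_cancel, P.basicOpen_of_isUnit isUnit_one]
  refine ⟨?_⟩
  rw [show ((P.basicOpen x : Set P))ᶜ = (P.basicOpen (1 - x) : Set P) from ?_]
  · exact (P.basicOpen (1 - x)).2
  ext y
  constructor
  · intro hy
    exact ((h2.ge (Opens.mem_top y) : y ∈ (P.basicOpen x ⊔ P.basicOpen (1 - x) : P.Opens))).resolve_left hy
  · intro hy hy'
    exact (h1.le (⟨hy', hy⟩ : y ∈ P.basicOpen x ⊓ P.basicOpen (1 - x)))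

/-- A clopen subset of an affine scheme is the locus of an idempotent. -/
theorem exists_idempotent {P : Scheme.{u}} [IsAffine P] (W : Set P) (hW : IsClopen W) :
    ∃ x : Γ(P, ⊤), IsIdempotentElem x ∧ (P.basicOpen x : Set P) = W := by
  have hW' : IsClopen (P.isoSpec.inv ⁻¹' W) := hW.preimage P.isoSpec.inv.continuous
  obtain ⟨x, hx, hxW⟩ := PrimeSpectrum.exists_idempotent_basicOpen_eq_of_isClopen hW'
  refine ⟨x, hx, ?_⟩
  rw [← P.toSpecΓ_preimage_basicOpen x, Opens.map_coe, ← hxW, ← Set.preimage_comp]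
  show (P.isoSpec.hom ≫ P.isoSpec.inv).base ⁻¹' W = W
  rw [P.isoSpec.hom_inv_id]
  rfl

/-- The weakly universal finite open, from an open immersion into a finite scheme. -/
theorem exists_universal_core {X Y T : Scheme.{u}} [IsAffine Y] [IsAffine T] (o : X ⟶ T) [IsOpenImmersion o]
    (t : T ⟶ Y) [IsFinite t] [LocallyOfFinitePresentation t] {r : ℕ} (h : Fin r → Γ(T, ⊤))
    (hh : o.opensRange = ⨆ l, T.basicOpen (h l)) (f : X ⟶ Y) (hf : o ≫ t = f) :
    ∃ (Yu : Scheme.{u}) (a : Yu ⟶ Y) (Uu : (pullback f a).Opens), LocallyOfFinitePresentation a ∧ QuasiCompact a ∧ QuasiSeparated a ∧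
      IsFinite (Uu.ι ≫ pullback.snd f a) ∧
      ∀ (Y' : Scheme.{u}) (b : Y' ⟶ Y) (U' : (pullback f b).Opens), IsAffine Y' → IsFinite (U'.ι ≫ pullback.snd f b) →
        ∃ (c : Y' ⟶ Yu) (hc : c ≫ a = b),
          (pullback.map f b f a (𝟙 X) c (𝟙 Y) ((Category.comp_id f).trans (Category.id_comp f).symm) ((Category.comp_id b).trans hc.symm)) ⁻¹ᵁ Uu = U' := by
  letI := t.appTop.hom.toAlgebra
  haveI : Module.Finite Γ(Y, ⊤) Γ(T, ⊤) := t.finite_appTop
  haveI : Algebra.FinitePresentation Γ(Y, ⊤) Γ(T, ⊤) :=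
    HasRingHomProperty.appTop (P := @LocallyOfFinitePresentation) t inferInstance
  haveI : Module.FinitePresentation Γ(Y, ⊤) Γ(T, ⊤) := Module.FinitePresentation.of_finite_of_finitePresentation _ _
  obtain ⟨Q, _, _, e, hQ, hidem, hmem, huniv⟩ := exists_universal_idempotent (A := Γ(Y, ⊤)) h
  let Yu : Scheme.{u} := Spec (CommRingCat.of Q)
  let a : Yu ⟶ Y := Spec.map (CommRingCat.ofHom (algebraMap Γ(Y, ⊤) Q)) ≫ Y.isoSpec.inv
  letI := a.appTop.hom.toAlgebra
  have ha : ∀ q, a.appTop q = (Scheme.ΓSpecIso (CommRingCat.of Q)).inv (algebraMap Γ(Y, ⊤) Q q) := fun q => by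
    have e1 : Y.isoSpec.inv.appTop = (Scheme.ΓSpecIso Γ(Y, ⊤)).inv := by
      rw [← cancel_epi (Scheme.ΓSpecIso Γ(Y, ⊤)).hom, Iso.hom_inv_id, ← Y.toSpecΓ_appTop, ← Scheme.Hom.comp_appTop]
      show (Y.isoSpec.inv ≫ Y.isoSpec.hom).appTop = _
      rw [Iso.inv_hom_id]
      rfl
    have e2 : a.appTop = CommRingCat.ofHom (algebraMap Γ(Y, ⊤) Q) ≫ (Scheme.ΓSpecIso (CommRingCat.of Q)).inv := by
      rw [Scheme.Hom.comp_appTop, e1, ← Scheme.ΓSpecIso_inv_naturality]
    exact congr($(e2).hom q)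
  let κ : Q →ₐ[Γ(Y, ⊤)] Γ(Yu, ⊤) :=
    { __ := (Scheme.ΓSpecIso (CommRingCat.of Q)).inv.hom
      commutes' := fun q => (ha q).symm }
  obtain ⟨θu, -, hθu⟩ := exists_theta t a
  let Eu : Γ(pullback t a, ⊤) := θu (Algebra.TensorProduct.map (AlgHom.id Γ(Y, ⊤) Γ(T, ⊤)) κ e)
  have hEu : IsIdempotentElem Eu := (hidem.map (Algebra.TensorProduct.map (AlgHom.id Γ(Y, ⊤) Γ(T, ⊤)) κ)).map θu
  have hEmem : Eu ∈ Ideal.span (Set.range fun l => (pullback.fst t a).appTop (h l)) := by
    have h1 := Ideal.mem_map_of_mem (θu.comp (Algebra.TensorProduct.map (AlgHom.id Γ(Y, ⊤) Γ(T, ⊤)) κ).toRingHom) hmem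
    rw [Ideal.map_span, ← Set.range_comp] at h1
    refine Ideal.span_mono ?_ h1
    rintro _ ⟨l, rfl⟩
    refine ⟨l, ?_⟩
    show _ = θu (Algebra.TensorProduct.map (AlgHom.id Γ(Y, ⊤) Γ(T, ⊤)) κ (h l ⊗ₜ (1 : Q)))
    rw [Algebra.TensorProduct.map_tmul, hθu, map_one, map_one, mul_one]
    rfl
  let m : ∀ {Z : Scheme.{u}} (g : Z ⟶ Y), pullback f g ⟶ pullback t g := fun g =>
    pullback.lift (pullback.fst f g ≫ o) (pullback.snd f g) (by rw [Category.assoc, hf, pullback.condition])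
  have hm : ∀ {Z : Scheme.{u}} (g : Z ⟶ Y), IsPullback (pullback.fst f g) (m g) o (pullback.fst t g) := fun g =>
    IsPullback.of_bot (by
      rw [show m g ≫ pullback.snd t g = pullback.snd f g from pullback.lift_snd _ _ _, hf]
      exact IsPullback.of_hasPullback f g) (pullback.lift_fst _ _ _).symm (IsPullback.of_hasPullback t g)
  haveI hmo : ∀ {Z : Scheme.{u}} (g : Z ⟶ Y), IsOpenImmersion (m g) := fun g =>
    MorphismProperty.of_isPullback (hm g) inferInstance
  have hrange : ∀ {Z : Scheme.{u}} (g : Z ⟶ Y) (p : ↥(pullback t g)), p ∈ Set.range (m g) ↔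
      ∃ l, p ∈ (pullback t g).basicOpen ((pullback.fst t g).appTop (h l)) := fun g p => by
    have h1 : ∀ l, p ∈ (pullback t g).basicOpen ((pullback.fst t g).appTop (h l)) ↔
        pullback.fst t g p ∈ T.basicOpen (h l) := fun l => by
      rw [← Scheme.preimage_basicOpen_top]; rfl
    simp only [h1, ← Opens.mem_iSup, ← hh]
    refine ⟨?_, fun hp => LimitsH94.Approx.mem_range_of_isPullback (hm g) hp⟩
    rintro ⟨x, rfl⟩
    exact ⟨pullback.fst f g x, by rw [← Scheme.Hom.comp_apply, ← Scheme.Hom.comp_apply, (hm g).w]⟩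
  let W : (pullback t a).Opens := (pullback t a).basicOpen Eu
  let Uu : (pullback f a).Opens := m a ⁻¹ᵁ W
  refine ⟨Yu, a, Uu, ?_, inferInstance, inferInstance, ?_, fun Y' b U' hY' hU' => ?_⟩
  · haveI : LocallyOfFinitePresentation (Spec.map (CommRingCat.ofHom (algebraMap Γ(Y, ⊤) Q))) :=
      (HasRingHomProperty.Spec_iff (P := @LocallyOfFinitePresentation)).2 (RingHom.finitePresentation_algebraMap.2 hQ)
    infer_instance
  · let j := Uu.ι ≫ m a
    have hj : Set.range j = (W : Set ↥(pullback t a)) := by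
      rw [show ⇑j = ⇑(m a) ∘ ⇑Uu.ι from rfl, Set.range_comp, Scheme.Opens.range_ι]
      show m a '' (m a ⁻¹' (W : Set ↥(pullback t a))) = _
      refine Set.image_preimage_eq_of_subset fun p hp => (hrange a p).2 ?_
      exact Opens.mem_iSup.1 (basicOpen_le_of_mem_span _ hEmem hp)
    haveI : IsClosedImmersion j := IsClosedImmersion.of_isPreimmersion j (hj ▸ isClosed_basicOpen hEu)
    rw [show Uu.ι ≫ pullback.snd f a = j ≫ pullback.snd t a by
      rw [Category.assoc, pullback.lift_snd]]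
    infer_instance
  haveI := hY'
  letI := b.appTop.hom.toAlgebra
  haveI : IsAffine (pullback t b) := inferInstance
  let j := U'.ι ≫ m b
  haveI : IsFinite (j ≫ pullback.snd t b) := by rw [Category.assoc, pullback.lift_snd]; exact hU'
  haveI : IsFinite j := IsFinite.of_comp j (pullback.snd t b)
  have hW' : IsClopen (Set.range j) := ⟨j.isClosedMap.isClosed_range, j.isOpenEmbedding.isOpen_range⟩
  obtain ⟨E', hE', hE'W⟩ := exists_idempotent (Set.range j) hW'
  have hE'mem : E' ∈ Ideal.span (Set.range fun l => (pullback.fst t b).appTop (h l)) := by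
    let s : Set Γ(pullback t b, ⊤) := insert (1 - E') (Set.range fun l => (pullback.fst t b).appTop (h l))
    have hs : Ideal.span s = ⊤ := by
      refine (IsAffineOpen.iSup_basicOpen_eq_self_iff (isAffineOpen_top (pullback t b)) (s := s)).1 (top_le_iff.1 fun p _ => ?_)
      by_cases hp : p ∈ (pullback t b).basicOpen E'
      · obtain ⟨u, hu⟩ := hE'W.le hp
        obtain ⟨l, hl⟩ := (hrange b p).1 ⟨U'.ι u, hu⟩
        exact Opens.mem_iSup.2 ⟨⟨_, Set.mem_insert_of_mem _ ⟨l, rfl⟩⟩, hl⟩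
      · refine Opens.mem_iSup.2 ⟨⟨1 - E', Set.mem_insert _ _⟩, ?_⟩
        have h2 : p ∈ (pullback t b).basicOpen (E' + (1 - E')) := by
          rw [add_sub_cancel, Scheme.basicOpen_of_isUnit _ isUnit_one]; trivial
        exact ((pullback t b).basicOpen_add_le _ _ h2).resolve_left hp
    obtain ⟨c₀, y, hy, hc₀⟩ := Ideal.mem_span_insert.1 (hs ▸ Submodule.mem_top : (1 : Γ(pullback t b, ⊤)) ∈ Ideal.span s)
    have : E' = E' * y := by
      conv_lhs => rw [← mul_one E', hc₀, mul_add, ← mul_assoc, mul_comm E' c₀, mul_assoc, mul_sub, mul_one, hE'.eq,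
        sub_self, mul_zero, zero_add]
    rw [this]
    exact Ideal.mul_mem_left _ _ hy
  obtain ⟨θ, hθbij, hθ⟩ := exists_theta t b
  let θe := RingEquiv.ofBijective θ hθbij
  have hθsymm : ∀ l, θe.symm ((pullback.fst t b).appTop (h l)) = h l ⊗ₜ[Γ(Y, ⊤)] (1 : Γ(Y', ⊤)) := fun l => by
    rw [RingEquiv.symm_apply_eq]
    show _ = θ _
    rw [hθ, map_one, mul_one]
  have he' : θe.symm E' ∈ Ideal.span (Set.range fun l => h l ⊗ₜ[Γ(Y, ⊤)] (1 : Γ(Y', ⊤))) := by
    have h1 := Ideal.mem_map_of_mem θe.symm.toRingHom hE'mem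
    rw [Ideal.map_span, ← Set.range_comp] at h1
    refine Ideal.span_mono ?_ h1
    rintro _ ⟨l, rfl⟩
    exact ⟨l, (hθsymm l).symm⟩
  obtain ⟨ψ, hψ⟩ := huniv Γ(Y', ⊤) (θe.symm E') (hE'.map θe.symm) he'
  let c : Y' ⟶ Yu := Y'.isoSpec.hom ≫ Spec.map (CommRingCat.ofHom ψ.toRingHom)
  have hc : c ≫ a = b := by
    rw [Category.assoc, ← Spec.map_comp_assoc,
      show CommRingCat.ofHom (algebraMap Γ(Y, ⊤) Q) ≫ CommRingCat.ofHom ψ.toRingHom = b.appTop from
        CommRingCat.hom_ext ψ.comp_algebraMap,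
      Scheme.isoSpec_hom_naturality_assoc, Iso.hom_inv_id, Category.comp_id]
  have hcapp : ∀ q, c.appTop (κ q) = ψ q := fun q => by
    have e1 : (Scheme.ΓSpecIso (CommRingCat.of Q)).inv ≫ c.appTop = CommRingCat.ofHom ψ.toRingHom := by
      rw [Scheme.Hom.comp_appTop, ← Category.assoc, ← Scheme.ΓSpecIso_inv_naturality, Category.assoc]
      show _ ≫ _ ≫ Y'.toSpecΓ.appTop = _
      rw [Scheme.toSpecΓ_appTop, Iso.inv_hom_id, Category.comp_id]
    exact congr($(e1).hom q)
  refine ⟨c, hc, ?_⟩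
  let M : pullback t b ⟶ pullback t a := pullback.map t b t a (𝟙 T) c (𝟙 Y)
    ((Category.comp_id t).trans (Category.id_comp t).symm) ((Category.comp_id b).trans hc.symm)
  have hME : ∀ z : Γ(T, ⊤) ⊗[Γ(Y, ⊤)] Q, M.appTop (θu (Algebra.TensorProduct.map (AlgHom.id Γ(Y, ⊤) Γ(T, ⊤)) κ z)) =
      θ (Algebra.TensorProduct.map (AlgHom.id Γ(Y, ⊤) Γ(T, ⊤)) ψ z) := fun z => by
    induction z using TensorProduct.induction_on with
    | zero => simp only [map_zero]
    | add y z hy hz => simp only [map_add, hy, hz]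
    | tmul x q =>
      rw [Algebra.TensorProduct.map_tmul, Algebra.TensorProduct.map_tmul, hθu, hθ, map_mul,
        ← ConcreteCategory.comp_apply, ← ConcreteCategory.comp_apply, ← Scheme.Hom.comp_appTop,
        ← Scheme.Hom.comp_appTop, pullback.lift_fst, pullback.lift_snd, Category.comp_id, Scheme.Hom.comp_appTop,
        ConcreteCategory.comp_apply, hcapp]
  have hM : M ⁻¹ᵁ W = (pullback t b).basicOpen E' := by
    rw [Scheme.preimage_basicOpen_top, hME, hψ]
    exact congrArg _ (θe.apply_symm_apply E')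
  have hcomm : pullback.map f b f a (𝟙 X) c (𝟙 Y) ((Category.comp_id f).trans (Category.id_comp f).symm)
      ((Category.comp_id b).trans hc.symm) ≫ m a = m b ≫ M :=
    pullback.hom_ext
      (by simp only [m, M, Category.assoc, pullback.lift_fst, pullback.lift_fst_assoc, Category.comp_id])
      (by simp only [m, M, Category.assoc, pullback.lift_snd, pullback.lift_snd_assoc])
  show _ ⁻¹ᵁ (m a ⁻¹ᵁ W) = U'
  rw [← Scheme.Hom.comp_preimage, hcomm, Scheme.Hom.comp_preimage, hM]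
  refine SetLike.coe_injective ?_
  show m b ⁻¹' ((pullback t b).basicOpen E' : Set ↥(pullback t b)) = U'
  rw [hE'W, show ⇑j = ⇑(m b) ∘ ⇑U'.ι from rfl, Set.range_comp, Scheme.Opens.range_ι,
    Set.preimage_image_eq _ (m b).isOpenEmbedding.injective]

/-- A quasi-finite morphism of finite presentation of affine schemes has a weakly universal finite open. -/
theorem exists_universal {X Y : Scheme.{u}} (f : X ⟶ Y) [IsAffine X] [IsAffine Y] [LocallyQuasiFinite f]
    [LocallyOfFinitePresentation f] :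
    ∃ (Yu : Scheme.{u}) (a : Yu ⟶ Y) (Uu : (pullback f a).Opens), LocallyOfFinitePresentation a ∧ QuasiCompact a ∧ QuasiSeparated a ∧
      IsFinite (Uu.ι ≫ pullback.snd f a) ∧
      ∀ (Y' : Scheme.{u}) (b : Y' ⟶ Y) (U' : (pullback f b).Opens), IsAffine Y' → IsFinite (U'.ι ≫ pullback.snd f b) →
        ∃ (c : Y' ⟶ Yu) (hc : c ≫ a = b),
          (pullback.map f b f a (𝟙 X) c (𝟙 Y) ((Category.comp_id f).trans (Category.id_comp f).symm) ((Category.comp_id b).trans hc.symm)) ⁻¹ᵁ Uu = U' := by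
  classical
  letI := f.appTop.hom.toAlgebra
  haveI : Algebra.FinitePresentation Γ(Y, ⊤) Γ(X, ⊤) :=
    HasRingHomProperty.appTop (P := @LocallyOfFinitePresentation) f inferInstance
  haveI : Algebra.QuasiFinite Γ(Y, ⊤) Γ(X, ⊤) := HasRingHomProperty.appTop (P := @LocallyQuasiFinite) f inferInstance
  obtain ⟨C, _, _, φ, s, hfin, hfp, htop, hs⟩ := exists_finite_fp_ring (A := Γ(Y, ⊤)) (B := Γ(X, ⊤))
  obtain ⟨hopen, hrange⟩ := isOpenImmersion_spec (CommRingCat.ofHom φ.toRingHom) s htop hs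
  let o : X ⟶ Spec (CommRingCat.of C) := X.isoSpec.hom ≫ Spec.map (CommRingCat.ofHom φ.toRingHom)
  let t : Spec (CommRingCat.of C) ⟶ Y := Spec.map (CommRingCat.ofHom (algebraMap Γ(Y, ⊤) C)) ≫ Y.isoSpec.inv
  haveI : IsFinite (Spec.map (CommRingCat.ofHom (algebraMap Γ(Y, ⊤) C))) :=
    (IsFinite.SpecMap_iff _).2 (RingHom.finite_algebraMap.2 hfin)
  haveI : LocallyOfFinitePresentation (Spec.map (CommRingCat.ofHom (algebraMap Γ(Y, ⊤) C))) :=
    (HasRingHomProperty.Spec_iff (P := @LocallyOfFinitePresentation)).2 (RingHom.finitePresentation_algebraMap.2 hfp)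
  haveI : IsOpenImmersion o := inferInstance
  refine exists_universal_core o t (fun l => (Scheme.ΓSpecIso (CommRingCat.of C)).inv (s.equivFin.symm l).1) ?_ f ?_
  · refine SetLike.coe_injective ?_
    rw [Scheme.Hom.coe_opensRange, show ⇑o = ⇑(Spec.map (CommRingCat.ofHom φ.toRingHom)) ∘ ⇑X.isoSpec.hom from rfl,
      Set.range_comp, Set.range_eq_univ.2 X.isoSpec.hom.surjective, Set.image_univ, hrange, Opens.coe_iSup]
    have hb : ∀ g : C, (Spec (CommRingCat.of C)).basicOpen ((Scheme.ΓSpecIso (CommRingCat.of C)).inv g) = PrimeSpectrum.basicOpen g :=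
      fun g => basicOpen_eq_of_affine _
    refine Set.Subset.antisymm (fun p hp => ?_) (fun p hp => ?_)
    · obtain ⟨g, hg, hgp⟩ := Set.mem_iUnion₂.1 hp
      refine Set.mem_iUnion.2 ⟨s.equivFin ⟨g, hg⟩, ?_⟩
      rw [hb, Equiv.symm_apply_apply]
      exact hgp
    · obtain ⟨l, hl⟩ := Set.mem_iUnion.1 hp
      rw [hb] at hl
      exact Set.mem_biUnion (s.equivFin.symm l).2 hl
  · rw [Category.assoc, ← Spec.map_comp_assoc,
      show CommRingCat.ofHom (algebraMap Γ(Y, ⊤) C) ≫ CommRingCat.ofHom φ.toRingHom = f.appTop from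
        CommRingCat.hom_ext φ.comp_algebraMap,
      Scheme.isoSpec_hom_naturality_assoc, Iso.hom_inv_id, Category.comp_id]

end Groth.Agent.FlatB12.QFUniv
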